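import Mathlib
import Cfsg.Agent.H17.Chief
import Cfsg.Agent.Lib.FrattiniPGroup
import Cfsg.Agent.OddOrderLocal.MetacyclicCoprime

/-!
# `p`-central `p`-groups, `p` odd

`p` an odd prime, `H` a finite `p`-group in which all elements of order `p` are central.

* `comm_pow`: if `x ^ (p * p) = 1` then `⁅x, y⁆ ^ p = 1` for all `y`: the group `H / Ω₁(H)` is again
  `p`-central.
* `chief_of_pcentral`: if `H` is normal in the finite group `G` and `Ω₁(H)` has order at most `p ^ 2`,
  then the chief factors of `G` below `H` have order at most `p ^ 2`.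
-/

set_option autoImplicit false

namespace Cfsg.Agent.H17.PCentral

open Subgroup
open scoped commutatorElement
open Cfsg.Agent.H17.Chief

universe u

theorem card_comap_mk {G : Type*} [Group G] [Finite G] (N : Subgroup G) [N.Normal]
    (M : Subgroup (G ⧸ N)) :
    Nat.card (M.comap (QuotientGroup.mk' N)) = Nat.card M * Nat.card N := by
  have h6 := Subgroup.card_mul_index (M.comap (QuotientGroup.mk' N))
  have h7 : (M.comap (QuotientGroup.mk' N)).index = M.index :=
    Subgroup.index_comap_of_surjective M (QuotientGroup.mk'_surjective N)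
  have h8 := Subgroup.card_mul_index M
  have h9 := Subgroup.card_mul_index N
  have h10 : Nat.card (G ⧸ N) = N.index := rfl
  rw [h7] at h6
  have h11 : 0 < M.index := Nat.pos_of_ne_zero Subgroup.index_ne_zero_of_finite
  apply Nat.eq_of_mul_eq_mul_right h11
  rw [h6, ← h9, ← h10, ← h8]
  ring

/-- `⁅x ^ n, y⁆` when `⁅x, ⁅x, y⁆⁆` is central. -/
theorem commutator_pow_left_of_central {G : Type*} [Group G] {x y : G}
    (hz : ⁅x, ⁅x, y⁆⁆ ∈ center G) (n : ℕ) :
    ⁅x ^ n, y⁆ = ⁅x, y⁆ ^ n * ⁅x, ⁅x, y⁆⁆ ^ n.choose 2 := by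
  set c := ⁅x, y⁆ with hc
  set a := ⁅x, c⁆ with ha
  have hac : ∀ g : G, Commute g a := fun g => mem_center_iff.1 hz g
  have hxc : x * c * x⁻¹ = c * a := by
    have h1 : x * c * x⁻¹ = a * c := by rw [ha, commutatorElement_def]; group
    rw [h1, (hac c).eq]
  induction n with
  | zero => simp
  | succ n ih =>
    have h1 : ⁅x ^ (n + 1), y⁆ = x * ⁅x ^ n, y⁆ * x⁻¹ * c := by
      rw [hc, commutatorElement_def, commutatorElement_def, commutatorElement_def, pow_succ']
      group
    have h2 : x * (c ^ n * a ^ n.choose 2) * x⁻¹ = (x * c * x⁻¹) ^ n * a ^ n.choose 2 := by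
      rw [conj_pow]
      have : a ^ n.choose 2 * x⁻¹ = x⁻¹ * a ^ n.choose 2 := ((hac x⁻¹).pow_right _).eq.symm
      calc x * (c ^ n * a ^ n.choose 2) * x⁻¹ = x * c ^ n * (a ^ n.choose 2 * x⁻¹) := by group
        _ = x * c ^ n * x⁻¹ * a ^ n.choose 2 := by rw [this]; group
    rw [h1, ih, h2, hxc, (hac c).mul_pow, Nat.choose_succ_succ' n 1, Nat.choose_one_right]
    have h3 : a ^ n * a ^ n.choose 2 * c = c * (a ^ n * a ^ n.choose 2) := by
      rw [← pow_add]; exact ((hac c).pow_right _).eq.symm
    calc c ^ n * a ^ n * a ^ n.choose 2 * c = c ^ n * (a ^ n * a ^ n.choose 2 * c) := by group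
      _ = c ^ n * c * (a ^ n * a ^ n.choose 2) := by rw [h3]; group
      _ = c ^ (n + 1) * a ^ (n + n.choose 2) := by rw [← pow_succ, ← pow_add]

/-- The central step. -/
theorem comm_pow_aux {p : ℕ} [hpf : Fact p.Prime] (hp : p ≠ 2) (n : ℕ) :
    ∀ (H : Type u) [Group H] [Finite H], Nat.card H = n → IsPGroup p H →
      (∀ x : H, x ^ p = 1 → x ∈ center H) → ∀ x : H, (x ^ p) ^ p = 1 → ∀ y : H, ⁅x, y⁆ ^ p = 1 := by
  induction n using Nat.strong_induction_on with
  | _ n ih =>
  intro H _ _ hn hH hc
  let A : Subgroup H :=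
    { carrier := {x | x ^ p = 1}
      mul_mem' := by
        intro a b ha hb
        have h1 : Commute a b := mem_center_iff.1 (hc b hb) a
        change (a * b) ^ p = 1
        change a ^ p = 1 at ha
        change b ^ p = 1 at hb
        rw [h1.mul_pow, ha, hb, one_mul]
      one_mem' := one_pow p
      inv_mem' := by
        intro a ha
        change a⁻¹ ^ p = 1
        change a ^ p = 1 at ha
        rw [inv_pow, ha, inv_one] }
  have hA : ∀ x : H, x ∈ A ↔ x ^ p = 1 := fun x => Iff.rfl
  have hAc : A ≤ center H := fun x hx => hc x hx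
  have hAn : A.Normal := by
    refine ⟨fun a ha g => ?_⟩
    rw [mem_center_iff.1 (hAc ha) g, mul_inv_cancel_right]
    exact ha
  have key : ∀ j : ℕ, ∀ x : H, x ^ p ∈ A →
      (QuotientGroup.mk x : H ⧸ A) ∈ Subgroup.upperCentralSeries (H ⧸ A) j → ∀ y : H, ⁅x, y⁆ ∈ A := by
    intro j
    induction j with
    | zero =>
      intro x _ hxj y
      rw [Subgroup.upperCentralSeries_zero, Subgroup.mem_bot, QuotientGroup.eq_one_iff] at hxj
      have h1 : ⁅x, y⁆ = 1 := by
        rw [commutatorElement_eq_one_iff_mul_comm]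
        exact (mem_center_iff.1 (hAc hxj) y).symm
      rw [h1]
      exact one_mem _
    | succ j ihj =>
      intro x hxA hxj y
      have h1 : ∀ y : H, ⁅x, y⁆ ^ p ∈ A := by
        intro y
        by_cases hM : closure ({x, y * x * y⁻¹} : Set H) = ⊤
        · -- `H` is cyclic
          have h2 : zpowers x ⊔ frattini H = ⊤ := by
            rw [eq_top_iff, ← hM, closure_le]
            rintro z (rfl | rfl)
            · exact mem_sup_left (mem_zpowers _)
            · have h3 : y * x * y⁻¹ = ⁅y, x⁆ * x := by rw [commutatorElement_def]; group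
              rw [h3]
              exact mul_mem (mem_sup_right
                (Cfsg.Agent.Lib.FrattiniPGroup.commutator_mem_frattini hH y x))
                (mem_sup_left (mem_zpowers x))
          have h4 : zpowers x = ⊤ := frattini_nongenerating h2
          have h5 : y ∈ zpowers x := by rw [h4]; exact mem_top y
          obtain ⟨k, rfl⟩ := h5
          have h6 : ⁅x, x ^ k⁆ = 1 := by
            rw [commutatorElement_eq_one_iff_mul_comm]
            exact (Commute.refl x).zpow_right k
          change ⁅x, x ^ k⁆ ^ p ∈ A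
          rw [h6, one_pow]
          exact one_mem _
        · set M := closure ({x, y * x * y⁻¹} : Set H) with hMdef
          have hxM : x ∈ M := subset_closure (by simp)
          have hyM : y * x * y⁻¹ ∈ M := subset_closure (by simp)
          have hlt : Nat.card M < n := by
            rw [← hn]
            exact lt_of_not_ge fun h => hM (Subgroup.eq_top_of_le_card M h)
          have h2 := ih (Nat.card M) hlt M rfl (hH.to_subgroup M) (by
            intro z hz
            have h3 : (z : H) ^ p = 1 := congrArg Subtype.val hz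
            rw [mem_center_iff]
            intro g
            exact Subtype.ext (mem_center_iff.1 (hc z h3) g)) ⟨x, hxM⟩ (by
              apply Subtype.ext
              exact hxA) ⟨_, hyM⟩
          have h3 : ⁅x, y * x * y⁻¹⁆ ∈ A := congrArg Subtype.val h2
          rw [← QuotientGroup.eq_one_iff]
          have h4 : (QuotientGroup.mk ⁅x, y * x * y⁻¹⁆ : H ⧸ A) =
            ⁅(QuotientGroup.mk x : H ⧸ A), (QuotientGroup.mk (y * x * y⁻¹) : H ⧸ A)⁆ := rfl
          rw [← QuotientGroup.eq_one_iff, h4, commutatorElement_eq_one_iff_mul_comm] at h3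
          have h5 : (QuotientGroup.mk (⁅x, y⁆ ^ p) : H ⧸ A) =
              ((QuotientGroup.mk x : H ⧸ A) * (QuotientGroup.mk (y * x * y⁻¹) : H ⧸ A)⁻¹) ^ p := by
            rw [← QuotientGroup.mk_inv, ← QuotientGroup.mk_mul, ← QuotientGroup.mk_pow]
            congr 2
            rw [commutatorElement_def]
            group
          have h6 : Commute (QuotientGroup.mk x : H ⧸ A)
            (QuotientGroup.mk (y * x * y⁻¹) : H ⧸ A)⁻¹ := (show Commute _ _ from h3).inv_right
          rw [h5, h6.mul_pow, inv_pow, ← QuotientGroup.mk_pow, ← QuotientGroup.mk_pow]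
          have h7 : (QuotientGroup.mk (x ^ p) : H ⧸ A) = 1 := (QuotientGroup.eq_one_iff _).2 hxA
          have h8 : (QuotientGroup.mk ((y * x * y⁻¹) ^ p) : H ⧸ A) = 1 := by
            rw [QuotientGroup.eq_one_iff, conj_pow]
            exact hAn.conj_mem _ hxA y
          rw [h7, h8, inv_one, one_mul]
      have h2 : ∀ y z : H, ⁅⁅x, y⁆, z⁆ ∈ A := by
        intro y z
        apply ihj _ (h1 y)
        have h3 := (Subgroup.mem_upperCentralSeries_succ_iff.1 hxj) (QuotientGroup.mk y)
        exact h3
      -- the computation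
      have hz : ⁅x, ⁅x, y⁆⁆ ∈ A := by
        rw [← inv_mem_iff, commutatorElement_inv]
        exact h2 y x
      have h3 := commutator_pow_left_of_central (hAc hz) p (x := x) (y := y)
      have h4 : ⁅x ^ p, y⁆ = 1 := by
        rw [commutatorElement_eq_one_iff_mul_comm]
        exact (mem_center_iff.1 (hAc hxA) y).symm
      have h5 : 2 < p := lt_of_le_of_ne hpf.out.two_le (Ne.symm hp)
      obtain ⟨k, hk⟩ := hpf.out.dvd_choose_self (k := 2) (by norm_num) h5
      have h6 : ⁅x, ⁅x, y⁆⁆ ^ p = 1 := hz
      rw [h4, hk, pow_mul, h6, one_pow, mul_one] at h3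
      exact h3.symm
  intro x hx y
  have hq : IsPGroup p (H ⧸ A) := hH.to_quotient A
  have hnil : Group.IsNilpotent (H ⧸ A) := hq.isNilpotent
  obtain ⟨N, hN⟩ := hnil.nilpotent
  have h1 : ⁅x, y⁆ ∈ A := key N x hx (by rw [hN]; exact mem_top _) y
  exact h1

/-- If all elements of order `p` of the finite `p`-group `H` are central, `p` odd, then
`⁅x, y⁆ ^ p = 1` whenever `x ^ (p ^ 2) = 1`. -/
theorem comm_pow {p : ℕ} [Fact p.Prime] (hp : p ≠ 2) {H : Type*} [Group H] [Finite H]
    (hH : IsPGroup p H) (hc : ∀ x : H, x ^ p = 1 → x ∈ center H) {x : H} (hx : (x ^ p) ^ p = 1)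
    (y : H) : ⁅x, y⁆ ^ p = 1 :=
  comm_pow_aux hp (Nat.card H) H rfl hH hc x hx y

/-- Chief factors below a normal `p`-central `p`-subgroup with small `Ω₁`. -/
theorem chief_of_pcentral_aux {p : ℕ} [hpf : Fact p.Prime] (hp : p ≠ 2) (n : ℕ) :
    ∀ (G : Type u) [Group G] [Finite G] (H : Subgroup G), H.Normal → Nat.card H = n →
      IsPGroup p H → (∀ x ∈ H, x ^ p = 1 → ∀ y ∈ H, x * y = y * x) →
      (∀ A : Subgroup G, A ≤ H → (∀ a ∈ A, a ^ p = 1) → Nat.card A ≤ p ^ 2) →
      ∀ K U : Subgroup G, IsChief K U → U ≤ H → K.relIndex U ≤ p ^ 2 := by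
  induction n using Nat.strong_induction_on with
  | _ n ih =>
  intro G _ _ H hHn hn hH hc hb K U hKU hUH
  let A : Subgroup G :=
    { carrier := {x | x ∈ H ∧ x ^ p = 1}
      mul_mem' := by
        rintro a b ⟨ha, ha'⟩ ⟨hb, hb'⟩
        have h1 : Commute a b := hc a ha ha' b hb
        exact ⟨mul_mem ha hb, by rw [h1.mul_pow, ha', hb', one_mul]⟩
      one_mem' := ⟨one_mem _, one_pow p⟩
      inv_mem' := by
        rintro a ⟨ha, ha'⟩
        exact ⟨inv_mem ha, by rw [inv_pow, ha', inv_one]⟩ }
  have hAn : A.Normal := by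
    refine ⟨fun a ha g => ⟨hHn.conj_mem a ha.1 g, ?_⟩⟩
    rw [conj_pow, ha.2, mul_one, mul_inv_cancel]
  have hAH : A ≤ H := fun a ha => ha.1
  have hAcard : Nat.card A ≤ p ^ 2 := hb A hAH (fun a ha => ha.2)
  by_cases hUA : U ⊓ A ≤ K
  · -- pass to the quotient
    obtain ⟨hq, hrel, -⟩ := hKU.quotient A hUA
    rw [← hrel]
    set f := QuotientGroup.mk' A with hf
    have hfs : Function.Surjective f := QuotientGroup.mk'_surjective A
    have hA1 : A ≠ ⊥ := by
      intro hA
      have hH1 : H ≠ ⊥ := by
        rintro rfl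
        have := hKU.lt
        rw [le_bot_iff.1 hUH] at this
        exact not_lt_bot this
      have hnt : Nontrivial H := (Subgroup.nontrivial_iff_ne_bot H).2 hH1
      obtain ⟨m, hm0, hm⟩ := hH.nontrivial_iff_card.1 hnt
      obtain ⟨z, hz⟩ := exists_prime_orderOf_dvd_card' (G := H) p (by
        rw [hm]; exact dvd_pow_self p hm0.ne')
      have h1 : (z : G) ∈ A := ⟨z.2, by
        have := pow_orderOf_eq_one z
        rw [hz] at this
        exact congrArg Subtype.val this⟩
      rw [hA, Subgroup.mem_bot] at h1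
      have h2 : z = 1 := Subtype.ext h1
      rw [h2, orderOf_one] at hz
      exact hpf.out.ne_one hz.symm
    have hcardH : Nat.card (H.map f) * Nat.card A = Nat.card H := by
      rw [← card_comap_mk]
      congr 1
      have h1 : (H.map f).comap f = H := by
        rw [Subgroup.comap_map_eq, QuotientGroup.ker_mk', sup_eq_left]
        exact hAH
      rw [← hf, h1]
    have hlt : Nat.card (H.map f) < n := by
      rw [← hn, ← hcardH]
      have h1 : 1 < Nat.card A := by
        rw [Subgroup.one_lt_card_iff_ne_bot]; exact hA1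
      have h2 : 0 < Nat.card (H.map f) := Nat.card_pos
      nlinarith
    -- the commutator identity
    have hcomm : ∀ x ∈ H, x ^ p ∈ A → ∀ y ∈ H, ⁅x, y⁆ ∈ A := by
      intro x hx hxA y hy
      have h1 := comm_pow hp hH (by
        intro z hz
        rw [mem_center_iff]
        intro g
        apply Subtype.ext
        exact (hc z z.2 (congrArg Subtype.val hz) g g.2).symm) (x := ⟨x, hx⟩)
        (Subtype.ext hxA.2) ⟨y, hy⟩
      refine ⟨?_, congrArg Subtype.val h1⟩
      exact (⁅(⟨x, hx⟩ : H), ⟨y, hy⟩⁆ : H).2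
    refine ih _ hlt (G ⧸ A) (H.map f) (Subgroup.Normal.map hHn f hfs) rfl (hH.map f) ?_ ?_ _ _ hq
      (Subgroup.map_mono hUH)
    · rintro _ ⟨x, hx, rfl⟩ hxp _ ⟨y, hy, rfl⟩
      rw [← commutatorElement_eq_one_iff_mul_comm, ← map_commutatorElement]
      apply (QuotientGroup.eq_one_iff _).2
      apply hcomm x hx _ y hy
      rw [← map_pow] at hxp
      exact (QuotientGroup.eq_one_iff _).1 hxp
    · intro B hBH hBp
      -- the `p`-power map
      have hBH' : B.comap f ≤ H := by
        intro x hx
        obtain ⟨y, hy, hyx⟩ := hBH hx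
        have h1 : y⁻¹ * x ∈ A := by
          rw [← QuotientGroup.eq]
          exact hyx
        have h2 : y * (y⁻¹ * x) ∈ H := mul_mem hy (hAH h1)
        rwa [mul_inv_cancel_left] at h2
      have hBpow : ∀ x ∈ B.comap f, x ^ p ∈ A := by
        intro x hx
        have h1 := hBp (f x) hx
        rw [← map_pow] at h1
        exact (QuotientGroup.eq_one_iff _).1 h1
      let π : (B.comap f) →* A :=
        { toFun := fun x => ⟨(x : G) ^ p, hBpow x x.2⟩
          map_one' := Subtype.ext (one_pow p)
          map_mul' := by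
            intro x y
            apply Subtype.ext
            change ((x : G) * (y : G)) ^ p = (x : G) ^ p * (y : G) ^ p
            have h1 : ⁅(y : G), (x : G)⁆ ∈ A := hcomm y (hBH' y.2) (hBpow y y.2) x (hBH' x.2)
            exact Cfsg.Agent.OddOrderLocal.MetacyclicCoprime.mul_pow_prime_of_commute_commutator hp
              (hc _ h1.1 h1.2 x (hBH' x.2)).symm (hc _ h1.1 h1.2 y (hBH' y.2)).symm h1.2 }
      have h2 := π.ker.card_mul_index
      rw [Subgroup.index_ker] at h2
      have h3 : Nat.card π.range ≤ p ^ 2 :=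
        (Nat.card_le_card_of_injective _ Subtype.val_injective).trans hAcard
      have h4 : Nat.card π.ker ≤ Nat.card A := by
        apply Nat.card_le_card_of_injective
          (fun x : π.ker => (⟨((x : B.comap f) : G), hBH' (x : B.comap f).2, by
            have := congrArg Subtype.val (MonoidHom.mem_ker.1 x.2)
            exact this⟩ : A))
        intro x y hxy
        apply Subtype.ext
        apply Subtype.ext
        exact congrArg (fun z : A => (z : G)) hxy
      have h5 : Nat.card (B.comap f) = Nat.card B * Nat.card A := card_comap_mk A B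
      rw [h5] at h2
      have h6 : 0 < Nat.card A := Nat.card_pos
      have h7 : Nat.card B * Nat.card A ≤ p ^ 2 * Nat.card A := by
        rw [← h2, mul_comm]
        exact Nat.mul_le_mul h3 h4
      exact Nat.le_of_mul_le_mul_right h7 h6
  · -- inside `A`
    have h1 := (hKU.inf A hUA).2
    rw [← h1]
    calc (K ⊓ A).relIndex (U ⊓ A) ≤ Nat.card (U ⊓ A : Subgroup G) :=
          Nat.le_of_dvd Nat.card_pos (Subgroup.relIndex_dvd_card _ _)
      _ ≤ Nat.card A := Subgroup.card_le_of_le inf_le_right
      _ ≤ p ^ 2 := hAcard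

/-- **Chief factors below a normal `p`-central `p`-subgroup** `H` with `|Ω₁(H)| ≤ p ^ 2`. -/
theorem chief_of_pcentral {p : ℕ} [Fact p.Prime] (hp : p ≠ 2) {G : Type*} [Group G] [Finite G]
    (H : Subgroup G) [hn : H.Normal] (hH : IsPGroup p H)
    (hc : ∀ x ∈ H, x ^ p = 1 → ∀ y ∈ H, x * y = y * x)
    (hb : ∀ A : Subgroup G, A ≤ H → (∀ a ∈ A, a ^ p = 1) → Nat.card A ≤ p ^ 2)
    {K U : Subgroup G} (h : IsChief K U) (hU : U ≤ H) : K.relIndex U ≤ p ^ 2 :=
  chief_of_pcentral_aux hp (Nat.card H) G H hn rfl hH hc hb K U h hU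

end Cfsg.Agent.H17.PCentral
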