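import Mathlib
import Cfsg.Agent.H17.RankTwoChief
import Cfsg.Agent.Lib.PSolvable
import Cfsg.Agent.Lib.Cores

/-!
# `p`-chief factors of `p`-solvable groups of `p`-rank two

`relIndex_le_of_bot`: the case `O_{p'}(G) = 1`.
-/

set_option autoImplicit false

namespace Cfsg.Agent.H17.PSolvChief

open Subgroup
open Cfsg.Agent.H17.Chief Cfsg.Agent.H17.RankTwoChief

variable {G : Type*} [Group G]

/-- The kernel of the action of `G` on `U / W`. -/
def secKer (W U : Subgroup G) (hU : U.Normal) : Subgroup G where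
  carrier := {x | ∀ u ∈ U, x * u * x⁻¹ * u⁻¹ ∈ W}
  mul_mem' := by
    intro x y hx hy u hu
    have h1 := hx (y * u * y⁻¹) (hU.conj_mem u hu y)
    have h2 := hy u hu
    have h3 := mul_mem h1 h2
    have e : x * (y * u * y⁻¹) * x⁻¹ * (y * u * y⁻¹)⁻¹ * (y * u * y⁻¹ * u⁻¹) =
      x * y * u * (x * y)⁻¹ * u⁻¹ := by group
    rwa [e] at h3
  one_mem' := by
    intro u _
    have e : (1 : G) * u * 1⁻¹ * u⁻¹ = 1 := by group
    rw [e]
    exact one_mem _
  inv_mem' := by
    intro x hx u hu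
    have h0 : x⁻¹ * u * x ∈ U := by simpa using hU.conj_mem u hu x⁻¹
    have h1 := hx _ h0
    have h2 := inv_mem h1
    have e : (x * (x⁻¹ * u * x) * x⁻¹ * (x⁻¹ * u * x)⁻¹)⁻¹ = x⁻¹ * u * x⁻¹⁻¹ * u⁻¹ := by group
    rwa [e] at h2

theorem mem_secKer {W U : Subgroup G} {hU : U.Normal} {x : G} :
    x ∈ secKer W U hU ↔ ∀ u ∈ U, x * u * x⁻¹ * u⁻¹ ∈ W := Iff.rfl

theorem secKer_normal {W U : Subgroup G} (hW : W.Normal) (hU : U.Normal) :
    (secKer W U hU).Normal := by
  refine ⟨fun x hx g u hu => ?_⟩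
  have h0 : g⁻¹ * u * g ∈ U := by simpa using hU.conj_mem u hu g⁻¹
  have h1 := hW.conj_mem _ (hx _ h0) g
  have e : g * (x * (g⁻¹ * u * g) * x⁻¹ * (g⁻¹ * u * g)⁻¹) * g⁻¹ =
    g * x * g⁻¹ * u * (g * x * g⁻¹)⁻¹ * u⁻¹ := by group
  rwa [e] at h1

theorem secKer_eq {W U : Subgroup G} [hW : W.Normal] (hU : U.Normal) :
    secKer W U hU =
      (centralizer (U.map (QuotientGroup.mk' W) : Set (G ⧸ W))).comap (QuotientGroup.mk' W) := by
  ext x
  rw [mem_secKer, mem_comap, mem_centralizer_iff]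
  constructor
  · rintro h _ ⟨u, hu, rfl⟩
    have h1 := h u hu
    have h2 : (QuotientGroup.mk' W) (x * u * x⁻¹ * u⁻¹) = 1 := by
      rw [QuotientGroup.mk'_apply, QuotientGroup.eq_one_iff]
      exact h1
    simp only [map_mul, map_inv] at h2
    exact (commutatorElement_eq_one_iff_mul_comm.1 h2).symm
  · intro h u hu
    have h1 := h _ ⟨u, hu, rfl⟩
    have h2 := commutatorElement_eq_one_iff_mul_comm.2 h1.symm
    rw [commutatorElement_def, ← map_mul, ← map_inv, ← map_mul, ← map_inv, ← map_mul] at h2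
    rwa [QuotientGroup.mk'_apply, QuotientGroup.eq_one_iff] at h2

/-- `p ^ 2` does not divide the index of the kernel of the action on a section of order at most
`p ^ 2`. -/
theorem not_sq_dvd_index_secKer [Finite G] {p : ℕ} [hpf : Fact p.Prime] {W U : Subgroup G}
    (hW : W.Normal) (hU : U.Normal) (hWU : W ≤ U) (hp : IsPGroup p U)
    (hcard : W.relIndex U ≤ p ^ 2) : ¬ p ^ 2 ∣ (secKer W U hU).index := by
  intro hdvd
  rw [secKer_eq hU, index_comap_of_surjective _ (QuotientGroup.mk'_surjective W)] at hdvd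
  set Ub : Subgroup (G ⧸ W) := U.map (QuotientGroup.mk' W) with hUb
  set D := centralizer (Ub : Set (G ⧸ W)) with hD
  have hUbn : Ub.Normal := hU.map _ (QuotientGroup.mk'_surjective W)
  have hUbp : IsPGroup p Ub := hp.map _
  have hUbc : Nat.card Ub ≤ p ^ 2 := by
    have h1 : (W.map (QuotientGroup.mk' W)).relIndex (U.map (QuotientGroup.mk' W)) =
        (W ⊔ (QuotientGroup.mk' W).ker).relIndex (U ⊔ (QuotientGroup.mk' W).ker) :=
      relIndex_map_map _ _ _
    rw [QuotientGroup.ker_mk', sup_idem, sup_eq_left.2 hWU,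
      (Subgroup.map_eq_bot_iff _).2 (QuotientGroup.ker_mk' W).ge, relIndex_bot_left] at h1
    rw [hUb, h1]
    exact hcard
  obtain ⟨Q⟩ : Nonempty (Sylow p (G ⧸ W)) := inferInstance
  have h1 : D.relIndex (Q : Subgroup (G ⧸ W)) ≤ p :=
    relIndex_centralizer_le_prime Q.isPGroup' hUbp (fun h _ e he => hUbn.conj_mem e he h) hUbc
  have hDn : D.Normal := by
    rw [hD]; infer_instance
  have h2 : D.relIndex ((Q : Subgroup (G ⧸ W)) ⊔ D) = D.relIndex Q := relIndex_sup_right _ _
  have h3 : D.relIndex ((Q : Subgroup (G ⧸ W)) ⊔ D) * ((Q : Subgroup (G ⧸ W)) ⊔ D).index =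
    D.index := relIndex_mul_index le_sup_right
  have h4 : ¬ p ∣ ((Q : Subgroup (G ⧸ W)) ⊔ D).index := by
    intro h
    exact Q.not_dvd_index (h.trans (index_dvd_of_le le_sup_left))
  have h5 : (p ^ 2).Coprime ((Q : Subgroup (G ⧸ W)) ⊔ D).index :=
    Nat.Coprime.pow_left 2 ((Nat.Prime.coprime_iff_not_dvd hpf.out).2 h4)
  rw [← h3, h2] at hdvd
  have h6 := h5.dvd_of_dvd_mul_right hdvd
  have h7 : p ^ 2 ≤ D.relIndex (Q : Subgroup (G ⧸ W)) :=
    Nat.le_of_dvd (Nat.pos_of_ne_zero Subgroup.index_ne_zero_of_finite) h6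
  have h8 : p ^ 2 ≤ p := h7.trans h1
  have h9 := hpf.out.two_le
  nlinarith

/-- A subgroup acting trivially on all chief factors below `P = O_p(G)` lies in `P`, if
`C_G(P) ≤ P`. -/
theorem le_pCore_of_secKer [Finite G] {p : ℕ} [hpf : Fact p.Prime]
    (hC : centralizer (Cfsg.pCore p G : Set G) ≤ Cfsg.pCore p G) {T : Subgroup G} (hT : T.Normal)
    (hTs : ∀ W U : Subgroup G, ∀ h : IsChief W U, U ≤ Cfsg.pCore p G → T ≤ secKer W U h.nH) :
    T ≤ Cfsg.pCore p G := by
  set P := Cfsg.pCore p G with hP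
  have hPp : IsPGroup p P := Cfsg.Agent.Lib.Cores.pCore_isPGroup p
  -- `p'`-elements of `T` are trivial
  have key : ∀ x ∈ T, (orderOf x).Coprime p → x = 1 := by
    intro x hx hcop
    have hxP : x ∈ centralizer (P : Set G) := by
      let S : Set (Subgroup G) := {M | M.Normal ∧ M ≤ P ∧ M ≤ centralizer {x}}
      have hSne : S.Nonempty := ⟨⊥, inferInstance, bot_le, bot_le⟩
      obtain ⟨M, ⟨hMn, hMP, hMx⟩, hMmax⟩ := (Set.toFinite S).exists_maximal hSne
      by_cases hMP' : M = P
      · rw [mem_centralizer_iff]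
        intro y hy
        exact (mem_centralizer_singleton_iff.1 (hMx (hMP' ▸ hy)))
      · exfalso
        obtain ⟨U, hU, hUP⟩ := exists_chief_above hMn
          (inferInstance : P.Normal) (lt_of_le_of_ne hMP hMP')
        have h1 := hTs M U hU hUP hx
        have h2 : U ∈ S := by
          refine ⟨hU.nH, hUP, ?_⟩
          intro u hu
          rw [mem_centralizer_singleton_iff]
          have hm := h1 u hu
          set m := x * u * x⁻¹ * u⁻¹ with hmdef
          have hxm : m * x = x * m := mem_centralizer_singleton_iff.1 (hMx hm)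
          have hxu : x * u * x⁻¹ = m * u := by rw [hmdef]; group
          have hk : ∀ k : ℕ, x ^ k * u * (x ^ k)⁻¹ = m ^ k * u := by
            intro k
            induction k with
            | zero => simp
            | succ k ih =>
              have hc : x * m ^ k * x⁻¹ = m ^ k := by
                have : Commute x (m ^ k) := (show Commute x m from hxm.symm).pow_right k
                rw [this.eq]; group
              calc x ^ (k + 1) * u * (x ^ (k + 1))⁻¹ = x * (x ^ k * u * (x ^ k)⁻¹) * x⁻¹ := by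
                    rw [pow_succ']; group
                _ = x * (m ^ k * u) * x⁻¹ := by rw [ih]
                _ = (x * m ^ k * x⁻¹) * (x * u * x⁻¹) := by group
                _ = m ^ k * (m * u) := by rw [hc, hxu]
                _ = m ^ (k + 1) * u := by rw [pow_succ]; group
          have h3 := hk (orderOf x)
          rw [pow_orderOf_eq_one] at h3
          have h4 : m ^ orderOf x = 1 := by
            have : m ^ orderOf x * u = 1 * u := by rw [← h3]; group
            exact mul_right_cancel this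
          obtain ⟨j, hj⟩ := hPp ⟨m, hMP hm⟩
          have hj' : m ^ p ^ j = 1 := congrArg Subtype.val hj
          have h5 : orderOf m ∣ 1 := by
            have h6 : (orderOf x).Coprime (p ^ j) := Nat.Coprime.pow_right j hcop
            rw [← h6]
            exact Nat.dvd_gcd (orderOf_dvd_of_pow_eq_one h4) (orderOf_dvd_of_pow_eq_one hj')
          have h7 : m = 1 := orderOf_eq_one_iff.1 (Nat.dvd_one.1 h5)
          rw [h7, one_mul] at hxu
          calc u * x = (x * u * x⁻¹) * x := by rw [hxu]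
            _ = x * u := by group
        exact absurd (hMmax h2 hU.lt.le) (not_le_of_gt hU.lt)
    have hxP' := hC hxP
    obtain ⟨j, hj⟩ := hPp ⟨x, hxP'⟩
    have hj' : x ^ p ^ j = 1 := congrArg Subtype.val hj
    have h6 : (orderOf x).Coprime (p ^ j) := Nat.Coprime.pow_right j hcop
    have h5 : orderOf x ∣ 1 := by
      rw [← h6]
      exact Nat.dvd_gcd dvd_rfl (orderOf_dvd_of_pow_eq_one hj')
    exact orderOf_eq_one_iff.1 (Nat.dvd_one.1 h5)
  have hTp : IsPGroup p T := by
    rw [IsPGroup.iff_card]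
    refine ⟨_, Nat.eq_prime_pow_of_unique_prime_dvd Nat.card_pos.ne' ?_⟩
    intro q hq hdvd
    have := Fact.mk hq
    obtain ⟨x, hx⟩ := exists_prime_orderOf_dvd_card' (G := T) q hdvd
    by_contra hne
    have h1 := key x x.2 (by
      rw [Subgroup.orderOf_coe, hx]
      exact (Nat.coprime_primes hq hpf.out).2 hne)
    have h2 : x = 1 := Subtype.ext h1
    rw [h2, orderOf_one] at hx
    exact hq.ne_one hx.symm
  exact Cfsg.Agent.Lib.Cores.le_pCore hT hTp

/-- The case `O_{p'}(G) = 1`. -/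
theorem relIndex_le_of_bot [Finite G] {p : ℕ} [hpf : Fact p.Prime] (hp2 : p ≠ 2)
    (hG : Cfsg.IsPSolvable p G) (hbot : Cfsg.pPrimeCore p G = ⊥) (hr : Cfsg.PRankLE p 2 G)
    {H K : Subgroup G} (h : IsChief K H) (hpow : ∃ n : ℕ, K.relIndex H = p ^ n) :
    K.relIndex H ≤ p ^ 2 := by
  have hC := Cfsg.Agent.Lib.PSolvable.centralizer_pCore_le_of_pSolvable p hG hbot
  set P := Cfsg.pCore p G with hP
  have hPp : IsPGroup p P := Cfsg.Agent.Lib.Cores.pCore_isPGroup p
  have hbelow : ∀ W U : Subgroup G, IsChief W U → U ≤ P → W.relIndex U ≤ p ^ 2 := by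
    intro W U hWU hUP
    apply chief_of_rank_two hp2 hPp _ hWU hUP
    intro A _ hAc hAp
    exact hr A ⟨⟨fun a b => Subtype.ext (hAc a a.2 b b.2)⟩⟩ hAp
  by_cases hHP : H ⊓ P ≤ K
  · -- the factor is above `P`
    let S : Set ℕ := {n | ∃ K' H' : Subgroup G, IsChief K' H' ∧ K'.relIndex H' = K.relIndex H ∧
      H' ⊓ P ≤ K' ∧ Nat.card H' = n}
    have hSne : S.Nonempty := ⟨_, K, H, h, rfl, hHP, rfl⟩
    obtain ⟨K', H', hKH', hrel, hHP', hcard⟩ := Nat.sInf_mem hSne
    have hmin : ∀ K'' H'' : Subgroup G, IsChief K'' H'' → K''.relIndex H'' = K.relIndex H →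
        H'' ⊓ P ≤ K'' → Nat.card H' ≤ Nat.card H'' := by
      intro K'' H'' h1 h2 h3
      rw [hcard]
      exact Nat.sInf_le ⟨K'', H'', h1, h2, h3, rfl⟩
    -- some section kernel does not contain `H'`
    have hex : ∃ W U : Subgroup G, ∃ h : IsChief W U, U ≤ P ∧ ¬ H' ≤ secKer W U h.nH := by
      by_contra hcon
      push Not at hcon
      have h1 : H' ≤ P := le_pCore_of_secKer hC hKH'.nH (fun W U hWU hUP => hcon W U hWU hUP)
      have h2 : H' ≤ K' := by
        have := hHP'
        rwa [inf_eq_left.2 h1] at this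
      exact absurd hKH'.lt (not_lt_of_ge h2)
    obtain ⟨W, U, hWU, hUP, hnot⟩ := hex
    set C := secKer W U hWU.nH with hCdef
    have hCn : C.Normal := secKer_normal hWU.nK hWU.nH
    have hHC : H' ⊓ C ≤ K' := by
      by_contra hcon
      obtain ⟨h1, h2⟩ := hKH'.inf C hcon
      have h3 := hmin _ _ h1 (h2.trans hrel) (by
        rintro x ⟨⟨hx1, hx2⟩, hx3⟩
        exact ⟨hHP' ⟨hx1, hx3⟩, hx2⟩)
      have h4 := Subgroup.eq_of_le_of_card_ge (inf_le_left : H' ⊓ C ≤ H') h3
      exact hnot (inf_eq_left.1 h4)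
    obtain ⟨-, -, h1⟩ := hKH'.quotient C hHC
    have h2 : K.relIndex H ∣ C.index := by
      rw [← hrel, ← h1]
      refine dvd_trans ?_ (index_dvd_of_le (le_sup_right : C ≤ K' ⊔ C))
      rw [← relIndex_mul_index (sup_le_sup_right hKH'.lt.le C)]
      exact dvd_mul_right _ _
    have h3 := not_sq_dvd_index_secKer hWU.nK hWU.nH hWU.lt.le (hPp.to_le hUP)
      (hbelow W U hWU hUP)
    obtain ⟨n, hn⟩ := hpow
    rw [hn] at h2 ⊢
    by_contra hcon
    have h4 : 2 ≤ n := by
      by_contra h5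
      apply hcon
      exact Nat.pow_le_pow_right hpf.out.pos (by omega)
    exact h3 ((pow_dvd_pow p h4).trans h2)
  · obtain ⟨h1, h2⟩ := h.inf P hHP
    rw [← h2]
    exact hbelow _ _ h1 inf_le_right

end Cfsg.Agent.H17.PSolvChief
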